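import Cfsg.Prelude.Def_GeometricClasses

/-!
Basic vocabulary for subgroups of `GL ι F` acting on column vectors.
-/

set_option autoImplicit false

namespace CfsgLib.SmallDim

open scoped MatrixGroups Matrix
open Cfsg.Geo

variable {ι : Type} [Fintype ι] [DecidableEq ι] {F : Type*} [Field F]

/-- The action of an invertible matrix on column vectors. -/
abbrev act (g : GL ι F) (v : ι → F) : ι → F := (g : Matrix ι ι F) *ᵥ v

lemma act_one (v : ι → F) : act (1 : GL ι F) v = v := by simp [act]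

lemma act_mul (g h : GL ι F) (v : ι → F) : act (g * h) v = act g (act h v) := by
  simp [act, Matrix.mulVec_mulVec]

lemma act_inv_act (g : GL ι F) (v : ι → F) : act g⁻¹ (act g v) = v := by
  rw [← act_mul, inv_mul_cancel, act_one]

lemma act_act_inv (g : GL ι F) (v : ι → F) : act g (act g⁻¹ v) = v := by
  rw [← act_mul, mul_inv_cancel, act_one]

lemma act_injective (g : GL ι F) : Function.Injective (act g) :=
  Function.LeftInverse.injective (act_inv_act g)

lemma act_ne_zero (g : GL ι F) {v : ι → F} (hv : v ≠ 0) : act g v ≠ 0 :=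
  fun h => hv (act_injective g (h.trans (Matrix.mulVec_zero _).symm))

lemma mem_matrixSet {R : Subgroup (GL ι F)} {s : Matrix ι ι F} :
    s ∈ matrixSet R ↔ ∃ g ∈ R, (g : Matrix ι ι F) = s := by
  simp [matrixSet]

lemma coe_mem_matrixSet {R : Subgroup (GL ι F)} {g : GL ι F} (hg : g ∈ R) :
    (g : Matrix ι ι F) ∈ matrixSet R := ⟨g, hg, rfl⟩

/-- Irreducibility of a subgroup, element-wise. -/
lemma actsIrreducibly_iff {R : Subgroup (GL ι F)} :
    ActsIrreducibly (matrixSet R) ↔
      ∀ W : Submodule F (ι → F), (∀ g ∈ R, ∀ v ∈ W, act g v ∈ W) → W = ⊥ ∨ W = ⊤ := by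
  refine ⟨fun h W hW => h W ?_, fun h W hW => h W ?_⟩
  · rintro _ ⟨g, hg, rfl⟩ _ ⟨v, hv, rfl⟩
    simpa [Matrix.toLin'_apply] using hW g hg v hv
  · intro g hg v hv
    simpa [Matrix.toLin'_apply] using hW _ (coe_mem_matrixSet hg) ⟨v, hv, rfl⟩

lemma mem_subspaceStabilizer {W : Submodule F (ι → F)} {g : GL ι F} :
    g ∈ subspaceStabilizer W ↔ ∀ v, v ∈ W ↔ act g v ∈ W := Iff.rfl

/-- A subgroup mapping `W` into itself lies in the stabiliser of `W`. -/
lemma le_subspaceStabilizer {R : Subgroup (GL ι F)} {W : Submodule F (ι → F)}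
    (h : ∀ g ∈ R, ∀ v ∈ W, act g v ∈ W) : R ≤ subspaceStabilizer W := by
  intro g hg
  rw [mem_subspaceStabilizer]
  refine fun v => ⟨h g hg v, fun hv => ?_⟩
  simpa [act_inv_act] using h g⁻¹ (R.inv_mem hg) _ hv

lemma act_scalar {g : GL ι F} {c : F} (h : (g : Matrix ι ι F) = c • (1 : Matrix ι ι F)) (v : ι → F) :
    act g v = c • v := by
  simp [act, h, Matrix.smul_mulVec]

lemma scalars_commute {z : GL ι F} (hz : z ∈ scalars ι F) (g : GL ι F) : z * g = g * z := by
  obtain ⟨c, hc⟩ := (mem_scalars_iff z).mp hz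
  exact Units.ext (by simp [hc])

/-- A matrix with every nonzero vector an eigenvector is scalar: here stated through a single scalar. -/
lemma mem_scalars_of_act {g : GL ι F} [Nonempty ι] (c : F) (h : ∀ v, act g v = c • v) : g ∈ scalars ι F := by
  have hc : c ≠ 0 := by
    intro h0
    obtain ⟨i⟩ := ‹Nonempty ι›
    exact act_ne_zero g (v := Pi.single i 1) (by simp) (by simp [h, h0])
  refine (mem_scalars_iff g).mpr ⟨Units.mk0 c hc, ?_⟩
  apply Matrix.ext_of_mulVec_single
  intro i
  have hi := h (Pi.single i 1)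
  simp only [act] at hi
  rw [hi, Matrix.smul_mulVec, Matrix.one_mulVec, Units.val_mk0]

/-- A maximal subgroup contained in `M` not containing the whole group equals the intersection with `M`. -/
lemma IsMaximalIn.eq_inf {G : Type*} [Group G] {K H M : Subgroup G} (h : IsMaximalIn K H) (hle : H ≤ M)
    (hM : ¬ K ≤ M) : H = M ⊓ K := by
  rcases h.2 (M ⊓ K) (le_inf hle h.1.le) inf_le_right with h' | h'
  · exact h'.symm
  · exact absurd (h' ▸ inf_le_left) hM

/-- `N` is a normal subgroup of `H`, as subgroups of an ambient group. -/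
structure NormalIn {G : Type*} [Group G] (N H : Subgroup G) : Prop where
  le : N ≤ H
  conj : ∀ h ∈ H, ∀ x ∈ N, h * x * h⁻¹ ∈ N

lemma NormalIn.refl {G : Type*} [Group G] (H : Subgroup G) : NormalIn H H :=
  ⟨le_rfl, fun _ hh _ hx => H.mul_mem (H.mul_mem hh hx) (H.inv_mem hh)⟩

lemma NormalIn.conj' {G : Type*} [Group G] {N H : Subgroup G} (h : NormalIn N H) {g : G} (hg : g ∈ H)
    {x : G} (hx : x ∈ N) : g⁻¹ * x * g ∈ N := by
  simpa using h.conj g⁻¹ (H.inv_mem hg) x hx

lemma NormalIn.mul_swap {G : Type*} [Group G] {N H : Subgroup G} (h : NormalIn N H) {g : G} (hg : g ∈ H)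
    {x : G} (hx : x ∈ N) : ∃ y ∈ N, x * g = g * y :=
  ⟨g⁻¹ * x * g, h.conj' hg hx, by group⟩

lemma NormalIn.commutator {G : Type*} [Group G] {N H : Subgroup G} (h : NormalIn N H) :
    NormalIn ⁅N, N⁆ H := by
  refine ⟨(Subgroup.commutator_le_self N).trans h.le, fun g hg x hx => ?_⟩
  have hmap : ⁅N, N⁆.map (MulAut.conj g).toMonoidHom ≤ ⁅N, N⁆ := by
    have hN : N.map (MulAut.conj g).toMonoidHom ≤ N := by
      rintro _ ⟨y, hy, rfl⟩
      exact h.conj g hg y hy
    rw [Subgroup.map_commutator]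
    exact Subgroup.commutator_mono hN hN
  exact hmap ⟨x, hx, rfl⟩

end CfsgLib.SmallDim
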