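import Cfsg.Agent.Lib.SmallDim.UnitaryPrime

/-!
Tables for the group `PSL(2,11)` inside `SU(5,2)`: the field with four elements is coded on `Fin 4`.
-/

set_option autoImplicit false

namespace CfsgLib.SmallDim.FiveTwo

/-- Addition. -/
def fa (a b : Fin 4) : Fin 4 := ![![0,1,2,3],![1,0,3,2],![2,3,0,1],![3,2,1,0]] a b
/-- Multiplication. -/
def fm (a b : Fin 4) : Fin 4 := ![![0,0,0,0],![0,1,2,3],![0,2,3,1],![0,3,1,2]] a b
/-- Conjugation. -/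
def fc (a : Fin 4) : Fin 4 := ![0,1,3,2] a

/-- Coded vectors. -/
abbrev Vec := Fin 5 → Fin 4
/-- Coded matrices. -/
abbrev Mat := Fin 5 → Fin 5 → Fin 4

/-- Sum of five terms. -/
def s5 (f : Fin 5 → Fin 4) : Fin 4 := fa (fa (fa (fa (f 0) (f 1)) (f 2)) (f 3)) (f 4)
/-- Matrix times vector. -/
def mv (X : Mat) (v : Vec) : Vec := fun i => s5 fun k => fm (X i k) (v k)
/-- The Hermitian Gram matrix of the columns. -/
def gram (X : Mat) : Mat := fun i j => s5 fun k => fm (X k i) (fc (X k j))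
/-- The identity. -/
def idm : Mat := fun i j => if i = j then 1 else 0
/-- The unit vectors. -/
def unit5 (i : Fin 5) : Vec := fun j => if j = i then 1 else 0

/-- An element of order eleven. -/
def matA : Mat := ![![1,1,3,2,2],![3,2,3,3,3],![0,2,0,1,2],![0,3,0,3,2],![1,2,2,3,3]]
/-- An element of order five. -/
def matB : Mat := ![![0,0,0,0,1],![1,0,0,0,0],![0,1,0,0,0],![0,0,1,0,0],![0,0,0,1,0]]
/-- An involution outside the normaliser of the element of order eleven. -/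
def matG : Mat := ![![1,0,0,0,0],![0,0,3,0,0],![0,2,0,0,0],![0,0,0,0,2],![0,0,0,3,0]]
/-- A diagonal element moving the frames. -/
def matD : Mat := ![![2,0,0,0,0],![0,3,0,0,0],![0,0,1,0,0],![0,0,0,1,0],![0,0,0,0,1]]

/-- The fifty-five vectors of the eleven frames. -/
def tblS : Fin 55 → Vec := ![![1,0,0,0,0]
  ,![0,1,0,0,0]
  ,![0,0,1,0,0]
  ,![0,0,0,1,0]
  ,![0,0,0,0,1]
  ,![1,3,0,0,1]
  ,![1,2,2,3,2]
  ,![3,3,0,0,2]
  ,![2,3,1,3,3]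
  ,![2,3,2,2,3]
  ,![0,1,3,0,3]
  ,![0,2,3,0,2]
  ,![3,2,2,1,3]
  ,![2,3,3,1,1]
  ,![2,2,2,2,3]
  ,![2,2,3,2,1]
  ,![3,0,0,2,3]
  ,![3,1,3,3,2]
  ,![3,2,2,3,2]
  ,![3,0,0,1,1]
  ,![3,2,3,2,2]
  ,![1,1,3,0,0]
  ,![2,1,2,2,3]
  ,![2,3,3,0,0]
  ,![3,2,3,1,3]
  ,![3,3,2,3,1]
  ,![2,3,2,3,2]
  ,![0,1,1,3,0]
  ,![3,2,1,2,2]
  ,![0,2,3,3,0]
  ,![2,3,0,2,0]
  ,![2,2,1,3,3]
  ,![3,3,1,1,2]
  ,![2,2,2,3,2]
  ,![1,3,0,3,0]
  ,![2,1,3,3,2]
  ,![3,1,1,2,3]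
  ,![2,2,3,2,2]
  ,![3,0,3,0,1]
  ,![3,0,2,0,2]
  ,![3,2,2,2,2]
  ,![3,0,1,3,0]
  ,![2,0,2,3,0]
  ,![3,3,2,2,1]
  ,![1,2,3,3,1]
  ,![0,0,2,3,3]
  ,![1,3,3,2,3]
  ,![2,2,3,2,3]
  ,![0,0,1,1,3]
  ,![2,3,2,1,2]
  ,![1,1,2,3,3]
  ,![2,3,2,2,2]
  ,![0,3,0,1,3]
  ,![0,2,0,2,3]
  ,![1,3,3,2,2]]
/-- Images under the element of order five. -/
def tblB : Fin 55 → Fin 55 := ![1,2,3,4,0,21,22,23,24,20,41,42,43,44,40,6,7,8,9,5,26,27,28,29,25,46,47,48,49,45,11,12,13,14,10,31,32,33,34,30,51,52,53,54,50,16,17,18,19,15,36,37,38,39,35]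
/-- Images under the involution. -/
def tblG : Fin 55 → Fin 55 := ![0,2,1,4,3,42,43,41,44,40,27,29,26,25,28,15,19,18,17,16,22,23,20,21,24,13,12,10,14,11,39,36,37,35,38,33,31,32,34,30,9,7,5,6,8,53,51,50,52,54,47,46,48,45,49]
/-- Scalars for the involution. -/
def tblGs : Fin 55 → Fin 4 := ![1,2,3,3,2,3,2,1,2,3,2,1,2,3,3,1,1,1,1,1,2,3,3,2,1,2,3,3,2,1,3,3,2,1,2,1,2,3,3,2,2,1,2,3,3,3,3,2,1,2,3,2,1,2,3]

lemma gram_A : ∀ i j, gram matA i j = idm i j := by decide +kernel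
lemma gram_B : ∀ i j, gram matB i j = idm i j := by decide +kernel
lemma gram_G : ∀ i j, gram matG i j = idm i j := by decide +kernel
lemma gram_D : ∀ i j, gram matD i j = idm i j := by decide +kernel
lemma S_unit : ∀ i : Fin 5, ∀ j, tblS ⟨i, by omega⟩ j = unit5 i j := by decide +kernel
lemma A_S : ∀ k : Fin 55, ∀ j, mv matA (tblS k) j = tblS (k + 5) j := by decide +kernel
lemma B_S : ∀ k : Fin 55, ∀ j, mv matB (tblS k) j = tblS (tblB k) j := by decide +kernel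
lemma G_S : ∀ k : Fin 55, ∀ j, mv matG (tblS k) j = fm (tblGs k) (tblS (tblG k) j) := by decide +kernel
lemma Gs_ne : ∀ k, tblGs k ≠ 0 := by decide +kernel
lemma B_unit : ∀ i j, mv matB (unit5 i) j = unit5 (i + 1) j := by decide +kernel
lemma G_unit : ∀ i j, mv matG (mv matG (unit5 i)) j = unit5 i j := by decide +kernel
lemma D_unit : ∀ i j, mv matD (mv matD (mv matD (unit5 i))) j = unit5 i j := by decide +kernel
lemma B_det : ∀ i j, mv matB (mv matB (mv matB (mv matB (mv matB (unit5 i))))) j = unit5 i j := by decide +kernel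
lemma BA : ∀ i : Fin 5, ∀ j, mv matB (tblS ⟨5 + i, by omega⟩) j =
    tblS ⟨20 + (i + 1 : Fin 5), by omega⟩ j := by decide +kernel
lemma GAGA : mv matG (mv matA (mv matG (mv matA (unit5 0)))) ≠ mv matA (mv matG (mv matA (mv matG (unit5 0)))) := by
  decide +kernel
lemma D_bad : ∀ k : Fin 55, ∀ s : Fin 4, mv matD (tblS 7) ≠ fun j => fm s (tblS k j) := by decide +kernel
/-- Traces of the powers. -/
def trTbl (m : Fin 11) : Fin 4 := s5 fun i => tblS ⟨5 * m + i, by omega⟩ i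
lemma trTbl_eq : ∀ m : Fin 11, trTbl m = trTbl 1 → m = 1 ∨ m = 4 ∨ m = 5 ∨ m = 9 ∨ m = 3 := by decide +kernel

end CfsgLib.SmallDim.FiveTwo
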