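import Cfsg.Agent.Lib.SmallDim.Transvection

/-!
Subfields of a finite field and subgroups normalising a group realised over a subfield.
-/

set_option autoImplicit false
set_option linter.style.haveILetI false

namespace CfsgLib.SmallDim

open scoped MatrixGroups Matrix
open Cfsg.Geo

variable {F : Type*} [Field F]

/-- The fixed field of `x ↦ x ^ p ^ k`. -/
def fixedField (p k : ℕ) [ExpChar F p] : Subfield F := (iterateFrobenius F p k).eqLocusField (RingHom.id F)

lemma mem_fixedField {p k : ℕ} [ExpChar F p] {x : F} : x ∈ fixedField (F := F) p k ↔ x ^ p ^ k = x := by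
  show iterateFrobenius F p k x = RingHom.id F x ↔ _
  rw [iterateFrobenius_def, RingHom.id_apply]

lemma card_fixedField [Fintype F] {p k e : ℕ} [hp : Fact p.Prime] [ExpChar F p] (hq : Fintype.card F = p ^ e)
    (hk : 0 < k) (hdvd : k ∣ e) : Nat.card (fixedField (F := F) p k) = p ^ k := by
  classical
  have h1 : 1 < p ^ k := Nat.one_lt_pow (by omega) hp.out.one_lt
  have hker : Nat.card (powMonoidHom (p ^ k - 1) : Fˣ →* Fˣ).ker = p ^ k - 1 := by
    rw [IsCyclic.card_powMonoidHom_ker, Nat.card_units, Nat.card_eq_fintype_card, hq]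
    exact Nat.gcd_eq_right (Nat.pow_sub_one_dvd_pow_sub_one _ hdvd)
  let e' : (powMonoidHom (p ^ k - 1) : Fˣ →* Fˣ).ker ≃ {x : fixedField (F := F) p k // x ≠ 0} :=
    { toFun := fun u => ⟨⟨(u : Fˣ), by
        rw [mem_fixedField]
        have hu : (u : Fˣ) ^ (p ^ k - 1) = 1 := u.2
        have := congrArg Units.val hu
        rw [Units.val_pow_eq_pow_val, Units.val_one] at this
        calc ((u : Fˣ) : F) ^ p ^ k = ((u : Fˣ) : F) ^ ((p ^ k - 1) + 1) := by congr 1; omega
            _ = _ := by rw [pow_succ, this, one_mul]⟩,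
        fun h => (u : Fˣ).ne_zero (congrArg Subtype.val h)⟩
      invFun := fun x => ⟨Units.mk0 x.1.1 (fun h => x.2 (Subtype.ext h)), by
        apply Units.ext
        show x.1.1 ^ (p ^ k - 1) = 1
        have := mem_fixedField.mp x.1.2
        replace this : x.1.1 ^ ((p ^ k - 1) + 1) = x.1.1 :=
          (congrArg (fun m => x.1.1 ^ m) (show p ^ k - 1 + 1 = p ^ k by omega)).trans this
        rw [pow_succ] at this
        exact mul_right_cancel₀ (fun h => x.2 (Subtype.ext h)) (this.trans (one_mul _).symm)⟩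
      left_inv := fun u => Subtype.ext (Units.ext rfl)
      right_inv := fun x => rfl }
  rw [Nat.card_congr e', Nat.card_eq_fintype_card, Fintype.card_subtype_compl, Fintype.card_subtype_eq,
    ← Nat.card_eq_fintype_card] at hker
  have : 0 < Nat.card (fixedField (F := F) p k) := Nat.card_pos
  omega

/-- Every subfield is a fixed field. -/
lemma exists_fixedField_eq [Fintype F] {p e : ℕ} [hp : Fact p.Prime] [CharP F p] (hq : Fintype.card F = p ^ e)
    (K : Subfield F) : ∃ d, 0 < d ∧ d ∣ e ∧ Nat.card K = p ^ d ∧ K = fixedField p d := by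
  classical
  haveI : CharP K p := (algebraMap K F).charP Subtype.val_injective p
  obtain ⟨⟨d, hd0⟩, -, hd⟩ := FiniteField.card K p
  change Fintype.card K = p ^ d at hd
  have hd' : Nat.card K = p ^ d := by rw [Nat.card_eq_fintype_card, hd]
  obtain ⟨m, hm⟩ : d ∣ e := by
    refine ⟨Module.finrank K F, ?_⟩
    have := Module.natCard_eq_pow_finrank (K := K) (V := F)
    rw [Nat.card_eq_fintype_card, hq, hd', ← pow_mul] at this
    exact Nat.pow_right_injective hp.out.two_le this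
  refine ⟨d, hd0, ⟨m, hm⟩, hd', SetLike.coe_injective ?_⟩
  refine Set.eq_of_subset_of_ncard_le (fun x hx => ?_) ?_ (Set.toFinite _)
  · refine mem_fixedField.mpr ?_
    have := FiniteField.pow_card (⟨x, hx⟩ : K)
    rw [hd] at this
    exact congrArg Subtype.val this
  · rw [← Nat.card_coe_set_eq, ← Nat.card_coe_set_eq]
    change Nat.card (fixedField (F := F) p d) ≤ Nat.card K
    rw [card_fixedField hq hd0 ⟨m, hm⟩, hd']

/-- A proper subfield lies in one of prime index. -/
lemma exists_prime_index_overfield [Fintype F] {K : Subfield F} (hK : K ≠ ⊤) :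
    ∃ (K₁ : Subfield F) (r : ℕ), r.Prime ∧ K ≤ K₁ ∧ Fintype.card F = Nat.card K₁ ^ r := by
  obtain ⟨p, hchar⟩ := CharP.exists F
  obtain ⟨e, hp, hq⟩ := FiniteField.card F p
  haveI := Fact.mk hp
  obtain ⟨d, hd0, ⟨m, hm⟩, hcard, hKeq⟩ := exists_fixedField_eq hq K
  have hm1 : m ≠ 1 := by
    intro h
    rw [h, mul_one] at hm
    refine hK (SetLike.coe_injective ?_)
    rw [Subfield.coe_top]
    refine Set.eq_of_subset_of_ncard_le (Set.subset_univ _) ?_ (Set.toFinite _)
    rw [Set.ncard_univ, ← Nat.card_coe_set_eq]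
    change _ ≤ Nat.card K
    rw [hcard, Nat.card_eq_fintype_card, hq, hm]
  obtain ⟨r, hr, hrm⟩ := Nat.exists_prime_and_dvd hm1
  obtain ⟨m', hm'⟩ := hrm
  have hpos : 0 < d * m' := by
    refine Nat.mul_pos hd0 (Nat.pos_of_ne_zero fun h => ?_)
    have := e.pos
    rw [hm, hm', h] at this
    simp at this
  refine ⟨fixedField p (d * m'), r, hr, fun x hx => ?_, ?_⟩
  · rw [hKeq, mem_fixedField] at hx
    rw [mem_fixedField, pow_mul]
    clear * - hx
    induction m' with
    | zero => simp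
    | succ k ih => rw [pow_succ, pow_mul, ih, hx]
  · rw [card_fixedField hq hpos ⟨r, by rw [hm, hm']; ring⟩, ← pow_mul, hq, hm, hm']
    congr 1
    ring

variable {ι : Type} [Fintype ι] [DecidableEq ι]

/-- A matrix with all entries in a subfield comes from that subfield. -/
lemma mem_map_range {K : Subfield F} {A : GL ι F} (hA : ∀ i j, (A : Matrix ι ι F) i j ∈ K) :
    A ∈ (Matrix.GeneralLinearGroup.map (K.subtype : K →+* F)).range := by
  let M : Matrix ι ι K := Matrix.of fun i j => ⟨_, hA i j⟩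
  have hM : M.map K.subtype = (A : Matrix ι ι F) := Matrix.ext fun i j => rfl
  have hdet : M.det ≠ 0 := by
    intro h0
    apply (A.isUnit.map Matrix.detMonoidHom).ne_zero
    show (A : Matrix ι ι F).det = 0
    rw [← hM, ← RingHom.mapMatrix_apply, ← RingHom.map_det, h0, map_zero]
  exact ⟨Matrix.GeneralLinearGroup.mkOfDetNeZero M hdet, Units.ext (Matrix.ext fun i j => rfl)⟩

lemma scalar_mem_scalars (c : Fˣ) : Units.map (Matrix.scalar ι : F →+* Matrix ι ι F).toMonoidHom c ∈ scalars ι F :=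
  ⟨c, rfl⟩

/-- A group normalising an absolutely irreducible group with entries in a subfield lies in a subfield group. -/
theorem le_subfieldSubgroup [Fintype F] [Nonempty ι] {H N : Subgroup (GL ι F)} (hN : NormalIn N H)
    (hirr : ActsAbsolutelyIrreducibly (matrixSet N)) {K : Subfield F} {B : GL ι F}
    (hB : ∀ s ∈ matrixSet N, ∀ i j, ((B : Matrix ι ι F) * s * ((B⁻¹ : GL ι F) : Matrix ι ι F)) i j ∈ K) :
    H ≤ subfieldSubgroup K B⁻¹ := by
  classical
  obtain ⟨p, hchar⟩ := CharP.exists F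
  obtain ⟨e, hp, hq⟩ := FiniteField.card F p
  haveI := Fact.mk hp
  obtain ⟨d, hd0, -, -, hKeq⟩ := exists_fixedField_eq hq K
  set τ := iterateFrobenius F p d
  have hτ : ∀ x, τ x = x ↔ x ∈ K := fun x => by rw [hKeq, mem_fixedField, iterateFrobenius_def]
  intro g hg
  set G : GL ι F := B * g * B⁻¹
  set Gτ : GL ι F := Matrix.GeneralLinearGroup.map τ G
  have hK' : ∀ x ∈ N, Matrix.GeneralLinearGroup.map τ (B * x * B⁻¹) = B * x * B⁻¹ := fun x hx =>
    Units.ext (Matrix.ext fun i j => (hτ _).mpr (by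
      simpa [Units.val_mul] using hB _ (coe_mem_matrixSet hx) i j))
  have hcomm : ∀ x ∈ N, (B⁻¹ * (G⁻¹ * Gτ) * B) * x = x * (B⁻¹ * (G⁻¹ * Gτ) * B) := by
    intro x hx
    have h1 : G * (B * x * B⁻¹) = (B * (g * x * g⁻¹) * B⁻¹) * G := by simp only [G]; group
    have h2 := congrArg (Matrix.GeneralLinearGroup.map τ) h1
    rw [map_mul (Matrix.GeneralLinearGroup.map τ) G (B * x * B⁻¹), map_mul (Matrix.GeneralLinearGroup.map τ) (B * (g * x * g⁻¹) * B⁻¹) G,
      hK' x hx, hK' _ (hN.conj g hg x hx)] at h2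
    have h3 : (G⁻¹ * Gτ) * (B * x * B⁻¹) = (B * x * B⁻¹) * (G⁻¹ * Gτ) :=
      calc (G⁻¹ * Gτ) * (B * x * B⁻¹) = G⁻¹ * (Gτ * (B * x * B⁻¹)) := mul_assoc _ _ _
        _ = G⁻¹ * ((B * (g * x * g⁻¹) * B⁻¹) * Gτ) := congrArg _ h2
        _ = (G⁻¹ * (B * (g * x * g⁻¹) * B⁻¹) * G) * (G⁻¹ * Gτ) := by group
        _ = _ := by
          congr 1
          simp only [G]
          group
    calc B⁻¹ * (G⁻¹ * Gτ) * B * x = B⁻¹ * ((G⁻¹ * Gτ) * (B * x * B⁻¹)) * B := by group
      _ = _ := by rw [h3]; group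
  obtain ⟨c, hc⟩ := hirr.2 _ (show ∀ s ∈ matrixSet N, ((B⁻¹ * (G⁻¹ * Gτ) * B : GL ι F) : Matrix ι ι F) * s
      = s * ((B⁻¹ * (G⁻¹ * Gτ) * B : GL ι F) : Matrix ι ι F) from by
    rintro _ ⟨x, hx, rfl⟩
    exact congrArg Units.val (hcomm x hx))
  have hGτ : (Gτ : Matrix ι ι F) = c • (G : Matrix ι ι F) := by
    calc (Gτ : Matrix ι ι F)
        = ((G * B * (B⁻¹ * (G⁻¹ * Gτ) * B) * B⁻¹ : GL ι F) : Matrix ι ι F) := by
          congr 1; group
      _ = _ := by
          rw [Units.val_mul, Units.val_mul, hc, Matrix.mul_smul, Matrix.mul_one, Matrix.smul_mul,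
            ← Units.val_mul, mul_inv_cancel_right]
  obtain ⟨i₀, j₀, ha⟩ : ∃ i j, (G : Matrix ι ι F) i j ≠ 0 := by
    by_contra hall
    push Not at hall
    exact Units.ne_zero G (Matrix.ext hall)
  set a := (G : Matrix ι ι F) i₀ j₀
  have hτa : τ a = c * a := congrFun (congrFun hGτ i₀) j₀
  set z : GL ι F := Units.map (Matrix.scalar ι : F →+* Matrix ι ι F).toMonoidHom (Units.mk0 a ha)
  have hG0 : ∀ i j, ((z⁻¹ * G : GL ι F) : Matrix ι ι F) i j ∈ K := by
    intro i j
    rw [← hτ]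
    have hij : ((z⁻¹ * G : GL ι F) : Matrix ι ι F) i j = a⁻¹ * (G : Matrix ι ι F) i j := by
      show ((Matrix.scalar ι) ((Units.mk0 a ha)⁻¹ : Fˣ).1 * (G : Matrix ι ι F)) i j = _
      simp
    have hG' : τ ((G : Matrix ι ι F) i j) = c * (G : Matrix ι ι F) i j := congrFun (congrFun hGτ i) j
    have hc0 : c ≠ 0 := by
      intro h0
      rw [h0, zero_mul, map_eq_zero] at hτa
      exact ha hτa
    rw [hij, map_mul, map_inv₀, hτa, hG']
    field_simp
  refine ⟨G, ?_, ?_⟩
  · rw [show G = z * (z⁻¹ * G) by group]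
    exact mul_mem (Subgroup.mem_sup_right ⟨_, rfl⟩) (Subgroup.mem_sup_left (mem_map_range hG0))
  · simp only [MulEquiv.coe_toMonoidHom, MulAut.conj_apply, G]
    group

lemma mem_subfieldSubgroup {K : Subfield F} {P g : GL ι F} :
    g ∈ subfieldSubgroup K P ↔ ∃ A z : GL ι F, (∀ i j, (A : Matrix ι ι F) i j ∈ K) ∧ z ∈ scalars ι F ∧
      g = P * (A * z) * P⁻¹ := by
  constructor
  · rintro ⟨y, hy, rfl⟩
    obtain ⟨_, ⟨A, rfl⟩, z, hz, rfl⟩ := Subgroup.mem_sup_of_normal_right.mp hy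
    exact ⟨_, z, fun i j => ((A : Matrix ι ι K) i j).2, hz, rfl⟩
  · rintro ⟨A, z, hA, hz, rfl⟩
    exact ⟨A * z, mul_mem (Subgroup.mem_sup_left (mem_map_range hA)) (Subgroup.mem_sup_right hz), rfl⟩

theorem not_sl_le_subfieldSubgroup (hn : 2 ≤ Fintype.card ι) {K : Subfield F} (hK : K ≠ ⊤) (P : GL ι F) :
    ¬ specialLinear ι F ≤ subfieldSubgroup K P := by
  intro hle
  obtain ⟨a, ha⟩ : ∃ a, a ∉ K := by
    by_contra hall
    push Not at hall
    exact hK (eq_top_iff.mpr fun x _ => hall x)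
  obtain ⟨i, j, hij⟩ := Fintype.one_lt_card_iff.mp (show 1 < Fintype.card ι by omega)
  have hdot : (Pi.single j 1 : ι → F) ⬝ᵥ (Pi.single i a) = 0 := by simp [hij]
  set t := transvec (Pi.single j 1) (Pi.single i a) hdot
  have ht : P * t * P⁻¹ ∈ specialLinear ι F :=
    (MonoidHom.normal_ker _).conj_mem t (transvec_mem_specialLinear _ _ hdot) P
  obtain ⟨A, z, hA, hz, he⟩ := mem_subfieldSubgroup.mp (hle ht)
  have he' : t = A * z := mul_left_cancel (mul_right_cancel he)
  obtain ⟨c, hc⟩ := (mem_scalars_iff z).mp hz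
  have hentry : ∀ k l, (t : Matrix ι ι F) k l = (A : Matrix ι ι F) k l * c := fun k l => by
    rw [he', Units.val_mul, hc, Matrix.mul_smul, Matrix.mul_one, Matrix.smul_apply, smul_eq_mul, mul_comm]
  have h11 := hentry i i
  have h12 := hentry i j
  simp [t, transvec, Matrix.vecMulVec_apply, hij, Ne.symm hij] at h11 h12
  apply ha
  rw [h12]
  have hc' : (c : F) = ((A : Matrix ι ι F) i i)⁻¹ := eq_inv_of_mul_eq_one_right h11.symm
  rw [hc']
  exact K.mul_mem (hA i j) (K.inv_mem (hA i i))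

end CfsgLib.SmallDim
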