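import Cfsg.Agent.Lib.SmallDim.Basic

/-!
Transvections in `SL`, and the fact that `SL` lies in no stabiliser of a subspace, of a decomposition into
lines, or of a subfield of the matrix algebra.
-/

set_option autoImplicit false
set_option linter.style.haveILetI false

namespace CfsgLib.SmallDim

open scoped MatrixGroups Matrix
open Cfsg.Geo

variable {ι : Type} [Fintype ι] [DecidableEq ι] {F : Type*} [Field F]

/-- The transvection `v ↦ v + (φ ⬝ v) w`, for `φ ⬝ w = 0`. -/
def transvec (φ w : ι → F) (h : φ ⬝ᵥ w = 0) : GL ι F where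
  val := 1 + Matrix.vecMulVec w φ
  inv := 1 - Matrix.vecMulVec w φ
  val_inv := by
    have : Matrix.vecMulVec w φ * Matrix.vecMulVec w φ = 0 := by
      rw [Matrix.vecMulVec_mul_vecMulVec, h, zero_smul, Matrix.vecMulVec_zero]
    rw [add_mul, one_mul, mul_sub, mul_one, this, sub_zero, sub_add_cancel]
  inv_val := by
    have : Matrix.vecMulVec w φ * Matrix.vecMulVec w φ = 0 := by
      rw [Matrix.vecMulVec_mul_vecMulVec, h, zero_smul, Matrix.vecMulVec_zero]
    rw [mul_add, mul_one, sub_mul, one_mul, this, sub_zero, sub_add_cancel]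

lemma act_transvec (φ w : ι → F) (h : φ ⬝ᵥ w = 0) (v : ι → F) :
    act (transvec φ w h) v = v + (φ ⬝ᵥ v) • w := by
  rw [act, transvec, Matrix.add_mulVec, Matrix.one_mulVec, Matrix.vecMulVec_mulVec]
  simp

lemma transvec_mem_specialLinear (φ w : ι → F) (h : φ ⬝ᵥ w = 0) : transvec φ w h ∈ specialLinear ι F := by
  rw [specialLinear, MonoidHom.mem_ker]
  apply Units.ext
  rw [Units.val_one, Matrix.GeneralLinearGroup.val_det_apply]
  show (1 + Matrix.vecMulVec w φ).det = 1
  rw [Matrix.vecMulVec_eq Unit, Matrix.det_one_add_replicateCol_mul_replicateRow, h, add_zero]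

/-- A vector with prescribed values on two independent vectors. -/
lemma exists_dot_pair {v w : ι → F} (h : LinearIndependent F ![v, w]) (a b : F) :
    ∃ φ : ι → F, φ ⬝ᵥ v = a ∧ φ ⬝ᵥ w = b := by
  let L : (ι → F) →ₗ[F] (Fin 2 → F) := Matrix.toLin' (Matrix.of ![v, w])
  have hL : Function.Surjective L := by
    rw [← LinearMap.range_eq_top]
    apply Submodule.eq_top_of_finrank_eq
    rw [Module.finrank_fin_fun]
    have := LinearIndependent.rank_matrix (M := Matrix.of ![v, w]) h
    rw [Fintype.card_fin, Matrix.rank, ← Matrix.toLin'_apply'] at this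
    exact this
  obtain ⟨φ, hφ⟩ := hL ![a, b]
  refine ⟨φ, ?_, ?_⟩
  · have := congrFun hφ 0
    rw [dotProduct_comm]
    simpa [L, Matrix.mulVec, dotProduct] using this
  · have := congrFun hφ 1
    rw [dotProduct_comm]
    simpa [L, Matrix.mulVec, dotProduct] using this

lemma linearIndependent_of_notMem {W : Submodule F (ι → F)} {v w : ι → F} (hw : w ∈ W) (hw0 : w ≠ 0)
    (hv : v ∉ W) : LinearIndependent F ![w, v] := by
  rw [linearIndependent_fin2]
  refine ⟨fun h => hv ?_, fun a h => ?_⟩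
  · simp only [Matrix.cons_val_one, Matrix.cons_val_zero] at h
    rw [h]; exact W.zero_mem
  simp only [Matrix.cons_val_zero, Matrix.cons_val_one, Matrix.head_cons] at h
  by_cases ha : a = 0
  · exact hw0 (by rw [← h, ha, zero_smul])
  · exact hv (by simpa [ha] using W.smul_mem a⁻¹ (h ▸ hw : a • v ∈ W))

/-- For linearly independent `w, v` some element of `SL` maps `w` to `w + v`. -/
lemma exists_sl_act {v w : ι → F} (h : LinearIndependent F ![w, v]) :
    ∃ g ∈ specialLinear ι F, act g w = w + v := by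
  obtain ⟨φ, h1, h2⟩ := exists_dot_pair h 1 0
  exact ⟨transvec φ v h2, transvec_mem_specialLinear φ v h2, by rw [act_transvec, h1, one_smul]⟩

lemma not_sl_le_subspaceStabilizer {W : Submodule F (ι → F)} (h0 : W ≠ ⊥) (h1 : W ≠ ⊤) :
    ¬ specialLinear ι F ≤ subspaceStabilizer W := by
  intro hle
  obtain ⟨w, hw, hw0⟩ := W.ne_bot_iff.mp h0
  obtain ⟨v, hv⟩ : ∃ v, v ∉ W := by
    by_contra hall
    push Not at hall
    exact h1 (Submodule.eq_top_iff'.mpr hall)
  obtain ⟨g, hg, hgw⟩ := exists_sl_act (linearIndependent_of_notMem hw hw0 hv)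
  have := (mem_subspaceStabilizer.mp (hle hg) w).mp hw
  rw [hgw] at this
  exact hv (by simpa using W.sub_mem this hw)

lemma not_sl_le_decompositionStabilizer {t : ℕ} {D : Fin t → Submodule F (ι → F)} (hD : IsMDecomposition 1 D) :
    ¬ specialLinear ι F ≤ decompositionStabilizer D := by
  intro hle
  have ht := hD.two_le
  let i : Fin t := ⟨0, by omega⟩
  let j : Fin t := ⟨1, by omega⟩
  have hij : i ≠ j := by simp [i, j]
  have hne : ∀ k, D k ≠ ⊥ := fun k h => by
    have := hD.finrank_eq k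
    rw [h, finrank_bot] at this
    omega
  obtain ⟨w, hw, hw0⟩ := (D i).ne_bot_iff.mp (hne i)
  obtain ⟨v, hv, hv0⟩ := (D j).ne_bot_iff.mp (hne j)
  have hdis := hD.indep.pairwiseDisjoint hij
  have hvi : v ∉ D i := fun h => hv0 (Submodule.disjoint_def.mp hdis v h hv)
  obtain ⟨g, hg, hgw⟩ := exists_sl_act (linearIndependent_of_notMem hw hw0 hvi)
  obtain ⟨σ, hσ⟩ := hle hg
  have hk : w + v ∈ D (σ i) := by
    rw [← hσ i]; exact ⟨w, hw, by rw [Matrix.toLin'_apply]; exact hgw⟩
  by_cases hki : σ i = i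
  · rw [hki] at hk
    exact hvi (by simpa using (D i).sub_mem hk hw)
  by_cases hkj : σ i = j
  · rw [hkj] at hk
    exact hw0 (Submodule.disjoint_def.mp hdis w hw (by simpa using (D j).sub_mem hk hv))
  have h3 := hD.indep (σ i)
  have : w + v ∈ ⨆ (l) (_ : l ≠ σ i), D l :=
    Submodule.add_mem _ (Submodule.mem_iSup_of_mem i (Submodule.mem_iSup_of_mem (Ne.symm hki) hw))
      (Submodule.mem_iSup_of_mem j (Submodule.mem_iSup_of_mem (Ne.symm hkj) hv))
  have h4 := Submodule.disjoint_def.mp h3 _ hk this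
  exact hvi (by rw [eq_neg_of_add_eq_zero_right h4]; exact (D i).neg_mem hw)

lemma not_sl_le_subalgebraNormalizer (hn : 3 ≤ Fintype.card ι) {r : ℕ} (hr : 2 ≤ r)
    {K : Subalgebra F (Matrix ι ι F)} (hK : IsFieldSubalgebra r K) :
    ¬ specialLinear ι F ≤ subalgebraNormalizer K := by
  intro hle
  obtain ⟨i⟩ : Nonempty ι := Fintype.card_pos_iff.mp (by omega)
  set v : ι → F := Pi.single i 1
  have hv0 : v ≠ 0 := by simp [v]
  have hinj : ∀ k ∈ K, ∀ u : ι → F, u ≠ 0 → k *ᵥ u = 0 → k = 0 := by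
    intro k hk u hu h
    by_contra h0
    obtain ⟨y, hy, hky⟩ := hK.inv k hk h0
    apply hu
    rw [← Matrix.one_mulVec u, ← hky, hK.comm k hk y hy, ← Matrix.mulVec_mulVec, h, Matrix.mulVec_zero]
  -- `k v` and `v` are independent for some `k ∈ K`
  obtain ⟨k, hk, hkv⟩ : ∃ k ∈ K, k *ᵥ v ∉ (F ∙ v) := by
    by_contra hall
    push Not at hall
    let L : K →ₗ[F] (F ∙ v) :=
      { toFun := fun k => ⟨(k : Matrix ι ι F) *ᵥ v, hall k k.2⟩
        map_add' := fun a b => Subtype.ext (by simp [Matrix.add_mulVec])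
        map_smul' := fun a b => Subtype.ext (by simp [Matrix.smul_mulVec]) }
    have hLi : Function.Injective L := by
      intro a b hab
      refine Subtype.ext (sub_eq_zero.mp (hinj _ (K.sub_mem a.2 b.2) v hv0 ?_))
      rw [Matrix.sub_mulVec, sub_eq_zero]
      exact congrArg Subtype.val hab
    have := LinearMap.finrank_le_finrank_of_injective hLi
    rw [finrank_span_singleton hv0, hK.finrank_eq] at this
    omega
  obtain ⟨φ, h1, h2⟩ := exists_dot_pair
    (linearIndependent_of_notMem (Submodule.mem_span_singleton_self v) hv0 hkv) 0 1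
  -- a non-zero common zero of `φ` and `φ ∘ k`
  obtain ⟨u, hu0, hu1, hu2⟩ : ∃ u : ι → F, u ≠ 0 ∧ φ ⬝ᵥ u = 0 ∧ φ ⬝ᵥ (k *ᵥ u) = 0 := by
    let L : (ι → F) →ₗ[F] (Fin 2 → F) := Matrix.toLin' (Matrix.of ![φ, φ ᵥ* k])
    have hker : 0 < Module.finrank F (LinearMap.ker L) := by
      have := LinearMap.finrank_range_add_finrank_ker L
      have h3 := Submodule.finrank_le (LinearMap.range L)
      rw [Module.finrank_fintype_fun_eq_card] at this
      rw [Module.finrank_fin_fun] at h3
      omega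
    obtain ⟨u, hu⟩ := Module.finrank_pos_iff_exists_ne_zero.mp hker
    refine ⟨u, fun h => hu (Subtype.ext h), ?_, ?_⟩
    · exact congrFun (LinearMap.mem_ker.mp u.2) 0
    · rw [Matrix.dotProduct_mulVec]
      exact congrFun (LinearMap.mem_ker.mp u.2) 1
  set g := transvec φ v h1
  have hk' := (hle (transvec_mem_specialLinear φ v h1) k).mp hk
  set k' := (g : Matrix ι ι F) * k * ((g⁻¹ : GL ι F) : Matrix ι ι F)
  have hact : ∀ x, k' *ᵥ act g x = act g (k *ᵥ x) := by
    intro x
    show ((g : Matrix ι ι F) * k * ((g⁻¹ : GL ι F) : Matrix ι ι F)) *ᵥ ((g : Matrix ι ι F) *ᵥ x) = _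
    rw [Matrix.mulVec_mulVec, Units.inv_mul_cancel_right, ← Matrix.mulVec_mulVec]
  have hu' : k' *ᵥ u = k *ᵥ u := by
    have := hact u
    rwa [act_transvec, act_transvec, hu1, hu2, zero_smul, add_zero, add_zero] at this
  have hkk : k' = k := sub_eq_zero.mp (hinj _ (K.sub_mem hk' hk) u hu0 (by rw [Matrix.sub_mulVec, hu', sub_self]))
  have := hact v
  rw [act_transvec, act_transvec, h1, h2, zero_smul, add_zero, one_smul, hkk] at this
  exact hv0 (by simpa using this)

end CfsgLib.SmallDim
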