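import Cfsg.Agent.Lib.SmallDim.UnitaryThreeCode

/-!
Line sets preserved by `3.A7` inside `SU(3,5)`.
-/

set_option autoImplicit false
set_option maxRecDepth 8000

namespace CfsgLib.SmallDim.UThree

/-- The lines of the model `a7`. -/
def a7S : Fin 105 → V3 5 :=
  ![![(0,0),(0,0),(1,0)]
   ,![(1,0),(0,0),(0,0)]
   ,![(1,0),(1,3),(4,2)]
   ,![(0,0),(1,0),(0,0)]
   ,![(0,0),(1,0),(1,0)]
   ,![(1,0),(0,4),(4,3)]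
   ,![(1,0),(3,1),(4,0)]
   ,![(1,0),(2,4),(4,0)]
   ,![(1,0),(3,2),(1,0)]
   ,![(1,0),(4,2),(1,3)]
   ,![(0,0),(1,0),(3,2)]
   ,![(1,0),(0,0),(1,0)]
   ,![(1,0),(3,3),(2,2)]
   ,![(1,0),(4,3),(0,1)]
   ,![(1,0),(3,4),(2,2)]
   ,![(1,0),(0,2),(2,3)]
   ,![(1,0),(3,3),(4,4)]
   ,![(1,0),(2,1),(2,2)]
   ,![(1,0),(4,0),(2,4)]
   ,![(1,0),(1,4),(4,0)]
   ,![(1,0),(4,0),(3,1)]
   ,![(1,0),(3,2),(3,0)]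
   ,![(1,0),(3,3),(3,3)]
   ,![(1,0),(1,0),(3,2)]
   ,![(1,0),(4,4),(4,4)]
   ,![(1,0),(0,1),(1,2)]
   ,![(1,0),(4,0),(2,3)]
   ,![(0,0),(1,0),(2,2)]
   ,![(1,0),(0,0),(3,3)]
   ,![(1,0),(0,0),(3,2)]
   ,![(1,0),(4,4),(1,1)]
   ,![(1,0),(1,0),(0,0)]
   ,![(1,0),(4,1),(2,0)]
   ,![(1,0),(4,0),(3,2)]
   ,![(1,0),(2,3),(4,0)]
   ,![(1,0),(3,2),(4,0)]
   ,![(1,0),(3,3),(1,1)]
   ,![(1,0),(1,3),(1,3)]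
   ,![(1,0),(0,3),(3,2)]
   ,![(1,0),(3,4),(3,3)]
   ,![(1,0),(4,2),(4,2)]
   ,![(1,0),(0,2),(3,2)]
   ,![(1,0),(2,3),(0,2)]
   ,![(1,0),(4,3),(0,4)]
   ,![(1,0),(2,3),(0,3)]
   ,![(1,0),(2,2),(3,4)]
   ,![(1,0),(0,0),(4,0)]
   ,![(1,0),(4,0),(1,4)]
   ,![(1,0),(1,4),(2,0)]
   ,![(1,0),(1,2),(0,1)]
   ,![(1,0),(3,2),(0,0)]
   ,![(1,0),(3,2),(0,3)]
   ,![(1,0),(1,1),(2,2)]
   ,![(1,0),(4,0),(4,1)]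
   ,![(1,0),(0,4),(1,2)]
   ,![(1,0),(3,2),(0,2)]
   ,![(1,0),(0,3),(2,3)]
   ,![(1,0),(2,0),(1,4)]
   ,![(1,0),(0,1),(4,3)]
   ,![(1,0),(2,3),(1,0)]
   ,![(1,0),(2,2),(4,4)]
   ,![(1,0),(1,4),(1,0)]
   ,![(1,0),(4,1),(3,0)]
   ,![(1,0),(1,2),(0,4)]
   ,![(1,0),(2,2),(3,3)]
   ,![(1,0),(1,1),(3,3)]
   ,![(0,0),(1,0),(4,0)]
   ,![(1,0),(0,0),(2,3)]
   ,![(1,0),(0,0),(2,2)]
   ,![(0,0),(1,0),(3,3)]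
   ,![(1,0),(3,3),(0,0)]
   ,![(1,0),(3,1),(1,0)]
   ,![(1,0),(2,0),(4,1)]
   ,![(1,0),(4,1),(4,0)]
   ,![(1,0),(2,3),(0,0)]
   ,![(1,0),(3,0),(2,3)]
   ,![(0,0),(1,0),(2,3)]
   ,![(1,0),(2,2),(2,2)]
   ,![(1,0),(1,1),(1,1)]
   ,![(1,0),(3,2),(2,0)]
   ,![(1,0),(2,4),(1,0)]
   ,![(1,0),(2,2),(1,1)]
   ,![(1,0),(3,3),(3,4)]
   ,![(1,0),(4,4),(3,3)]
   ,![(1,0),(3,3),(2,1)]
   ,![(1,0),(2,2),(2,1)]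
   ,![(1,0),(3,0),(3,2)]
   ,![(1,0),(1,0),(3,1)]
   ,![(1,0),(4,0),(0,0)]
   ,![(1,0),(3,0),(1,4)]
   ,![(1,0),(4,1),(1,0)]
   ,![(1,0),(2,3),(3,0)]
   ,![(1,0),(1,1),(4,4)]
   ,![(1,0),(2,1),(3,3)]
   ,![(1,0),(2,3),(2,0)]
   ,![(1,0),(1,0),(2,3)]
   ,![(1,0),(1,0),(1,4)]
   ,![(1,0),(1,4),(3,0)]
   ,![(1,0),(2,0),(3,2)]
   ,![(1,0),(4,4),(2,2)]
   ,![(1,0),(2,2),(0,0)]
   ,![(1,0),(2,0),(2,3)]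
   ,![(1,0),(3,0),(4,1)]
   ,![(1,0),(1,0),(2,4)]
   ,![(1,0),(1,0),(4,1)]]

/-- Generator. -/
def a7D1 : M3 5 := ![![(3,2),(0,0),(0,0)],![(0,0),(3,3),(0,0)],![(0,0),(0,0),(1,0)]]

/-- Images. -/
def a7D1t : Fin 105 → Fin 105 := ![0,1,5,3,10,13,17,14,22,25,27,28,33,37,41,7,47,38,51,52,55,16,26,59,57,63,35,66,67,11,72,74,30,8,77,12,53,54,71,15,58,80,85,2,45,87,68,79,78,9,70,82,86,21,43,84,6,32,49,64,96,65,24,40,95,75,76,46,29,4,88,93,62,99,100,19,69,23,102,36,39,104,20,101,18,103,61,42,50,48,83,60,89,56,81,34,94,92,90,98,31,73,97,44,91]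

/-- Scalars. -/
def a7D1c : Fin 105 → Q2 5 := ![(1,0),(3,2),(3,2),(3,3),(3,3),(3,2),(3,2),(3,2),(3,2),(3,2),(3,3),(3,2),(3,2),(3,2),(3,2),(3,2),(3,2),(3,2),(3,2),(3,2),(3,2),(3,2),(3,2),(3,2),(3,2),(3,2),(3,2),(3,3),(3,2),(3,2),(3,2),(3,2),(3,2),(3,2),(3,2),(3,2),(3,2),(3,2),(3,2),(3,2),(3,2),(3,2),(3,2),(3,2),(3,2),(3,2),(3,2),(3,2),(3,2),(3,2),(3,2),(3,2),(3,2),(3,2),(3,2),(3,2),(3,2),(3,2),(3,2),(3,2),(3,2),(3,2),(3,2),(3,2),(3,2),(3,2),(3,3),(3,2),(3,2),(3,3),(3,2),(3,2),(3,2),(3,2),(3,2),(3,2),(3,3),(3,2),(3,2),(3,2),(3,2),(3,2),(3,2),(3,2),(3,2),(3,2),(3,2),(3,2),(3,2),(3,2),(3,2),(3,2),(3,2),(3,2),(3,2),(3,2),(3,2),(3,2),(3,2),(3,2),(3,2),(3,2),(3,2),(3,2),(3,2)]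

lemma cert_a7D1 : Cert a7S a7D1 5 :=
  ⟨by decide +kernel, by decide +kernel, a7D1t, a7D1c, by decide +kernel⟩

lemma det_a7D1 : det3 a7D1 = q1 := by decide +kernel

/-- Generator. -/
def a7D2 : M3 5 := ![![(1,0),(0,0),(0,0)],![(0,0),(3,2),(0,0)],![(0,0),(0,0),(3,3)]]

/-- Images. -/
def a7D2t : Fin 105 → Fin 105 := ![0,1,58,3,76,49,14,17,64,54,69,28,23,9,38,6,96,41,44,99,42,60,95,8,89,43,34,4,67,11,102,50,78,59,12,77,104,25,80,56,5,71,84,40,82,20,68,94,30,37,100,45,98,91,63,85,7,48,13,22,47,83,92,2,26,101,10,46,29,66,31,39,97,52,70,73,27,33,72,81,93,53,87,75,103,18,90,55,74,32,65,16,57,15,36,35,79,24,61,86,88,19,62,51,21]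

/-- Scalars. -/
def a7D2c : Fin 105 → Q2 5 := ![(3,3),(1,0),(1,0),(3,2),(3,2),(1,0),(1,0),(1,0),(1,0),(1,0),(3,2),(1,0),(1,0),(1,0),(1,0),(1,0),(1,0),(1,0),(1,0),(1,0),(1,0),(1,0),(1,0),(1,0),(1,0),(1,0),(1,0),(3,2),(1,0),(1,0),(1,0),(1,0),(1,0),(1,0),(1,0),(1,0),(1,0),(1,0),(1,0),(1,0),(1,0),(1,0),(1,0),(1,0),(1,0),(1,0),(1,0),(1,0),(1,0),(1,0),(1,0),(1,0),(1,0),(1,0),(1,0),(1,0),(1,0),(1,0),(1,0),(1,0),(1,0),(1,0),(1,0),(1,0),(1,0),(1,0),(3,2),(1,0),(1,0),(3,2),(1,0),(1,0),(1,0),(1,0),(1,0),(1,0),(3,2),(1,0),(1,0),(1,0),(1,0),(1,0),(1,0),(1,0),(1,0),(1,0),(1,0),(1,0),(1,0),(1,0),(1,0),(1,0),(1,0),(1,0),(1,0),(1,0),(1,0),(1,0),(1,0),(1,0),(1,0),(1,0),(1,0),(1,0),(1,0)]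

lemma cert_a7D2 : Cert a7S a7D2 5 :=
  ⟨by decide +kernel, by decide +kernel, a7D2t, a7D2c, by decide +kernel⟩

lemma det_a7D2 : det3 a7D2 = q1 := by decide +kernel

/-- Generator. -/
def a7C : M3 5 := ![![(0,0),(0,0),(1,0)],![(1,0),(0,0),(0,0)],![(0,0),(1,0),(0,0)]]

/-- Images. -/
def a7Ct : Fin 105 → Fin 105 := ![1,3,6,0,11,14,18,20,23,7,28,31,34,38,42,45,48,44,2,53,9,57,8,22,61,17,64,67,50,70,73,4,75,12,33,26,62,80,82,51,71,84,5,15,25,43,88,30,86,56,10,58,91,92,93,54,85,83,39,95,97,96,98,41,35,79,46,100,74,29,69,87,52,47,76,81,68,59,90,102,103,32,13,21,63,49,16,40,66,99,104,72,19,55,89,77,24,101,36,94,27,60,65,37,78]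

/-- Scalars. -/
def a7Cc : Fin 105 → Q2 5 := ![(1,0),(1,0),(4,2),(1,0),(1,0),(4,3),(4,0),(4,0),(1,0),(1,3),(3,2),(1,0),(2,2),(0,1),(2,2),(2,3),(4,4),(2,2),(2,4),(4,0),(3,1),(3,0),(3,3),(3,2),(4,4),(1,2),(2,3),(2,2),(3,3),(3,2),(1,1),(1,0),(2,0),(3,2),(4,0),(4,0),(1,1),(1,3),(3,2),(3,3),(4,2),(3,2),(0,2),(0,4),(0,3),(3,4),(4,0),(1,4),(2,0),(0,1),(1,0),(0,3),(2,2),(4,1),(1,2),(0,2),(2,3),(1,4),(4,3),(1,0),(4,4),(1,0),(3,0),(0,4),(3,3),(3,3),(4,0),(2,3),(2,2),(3,3),(1,0),(1,0),(4,1),(4,0),(1,0),(2,3),(2,3),(2,2),(1,1),(2,0),(1,0),(1,1),(3,4),(3,3),(2,1),(2,1),(3,2),(3,1),(1,0),(1,4),(1,0),(3,0),(4,4),(3,3),(2,0),(2,3),(1,4),(3,0),(3,2),(2,2),(1,0),(2,3),(4,1),(2,4),(4,1)]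

lemma cert_a7C : Cert a7S a7C 2 :=
  ⟨by decide +kernel, by decide +kernel, a7Ct, a7Cc, by decide +kernel⟩

lemma det_a7C : det3 a7C = q1 := by decide +kernel

/-- Generator. -/
def a7T : M3 5 := ![![(0,0),(4,0),(0,0)],![(4,0),(0,0),(0,0)],![(0,0),(0,0),(4,0)]]

/-- Images. -/
def a7Tt : Fin 105 → Fin 105 := ![0,3,7,1,11,15,9,2,22,6,29,4,35,39,43,5,21,49,20,30,18,16,8,23,61,56,33,68,69,10,19,31,52,26,64,12,79,80,58,13,71,54,45,14,85,42,66,53,83,17,70,82,32,47,41,84,25,86,38,77,94,24,65,93,34,62,46,76,27,28,50,40,75,92,100,72,67,59,90,36,37,91,51,48,55,44,57,87,88,101,78,81,73,63,60,95,96,99,102,97,74,89,98,103,104]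

/-- Scalars. -/
def a7Tc : Fin 105 → Q2 5 := ![(4,0),(4,0),(4,2),(4,0),(4,0),(0,1),(2,4),(3,1),(2,3),(1,3),(4,0),(4,0),(2,2),(1,2),(2,1),(0,3),(2,2),(3,4),(1,0),(4,1),(1,0),(2,3),(2,2),(4,0),(1,1),(0,4),(1,0),(4,0),(4,0),(4,0),(1,1),(4,0),(1,4),(1,0),(3,2),(2,3),(2,2),(4,2),(0,2),(2,1),(1,3),(0,3),(3,2),(1,2),(3,2),(3,3),(4,0),(1,0),(4,1),(4,3),(2,3),(2,3),(4,4),(1,0),(0,1),(2,3),(0,2),(3,0),(0,4),(3,2),(3,3),(4,1),(1,4),(4,3),(3,3),(4,4),(4,0),(4,0),(4,0),(4,0),(2,2),(2,4),(3,0),(1,4),(3,2),(2,0),(4,0),(3,3),(4,4),(2,3),(3,1),(3,3),(2,2),(1,1),(2,2),(3,3),(2,0),(4,0),(1,0),(2,0),(1,4),(3,2),(4,4),(3,4),(3,2),(4,0),(4,0),(4,1),(3,0),(1,1),(3,3),(3,0),(2,0),(4,0),(4,0)]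

lemma cert_a7T : Cert a7S a7T 1 :=
  ⟨by decide +kernel, by decide +kernel, a7Tt, a7Tc, by decide +kernel⟩

lemma det_a7T : det3 a7T = q1 := by decide +kernel

/-- Generator. -/
def a7DR : M3 5 := ![![(1,0),(1,0),(1,1)],![(1,0),(2,0),(3,3)],![(1,4),(3,2),(1,0)]]

/-- Images. -/
def a7DRt : Fin 105 → Fin 105 := ![102,96,97,98,94,77,36,24,18,90,95,65,20,99,28,35,44,17,8,68,12,39,56,23,7,59,31,60,14,33,50,26,93,29,64,15,6,84,41,21,100,38,52,74,16,79,71,47,91,55,30,69,42,101,103,49,22,104,87,25,27,85,70,78,34,11,82,67,19,51,62,46,72,73,43,89,88,5,63,45,80,92,66,83,37,61,86,58,76,75,9,48,81,32,4,10,1,2,3,13,40,53,0,54,57]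

/-- Scalars. -/
def a7DRc : Fin 105 → Q2 5 := ![(1,1),(1,0),(0,4),(1,0),(2,1),(1,1),(3,0),(2,3),(0,3),(2,1),(3,0),(2,1),(0,2),(2,4),(0,3),(4,2),(1,1),(4,0),(0,1),(1,3),(0,4),(2,0),(3,4),(4,0),(2,2),(1,4),(3,0),(2,4),(0,1),(3,0),(3,1),(2,0),(2,3),(2,0),(2,2),(3,1),(2,0),(4,2),(3,3),(3,0),(3,3),(3,2),(2,0),(3,2),(4,1),(4,4),(0,4),(4,0),(4,1),(4,3),(4,2),(0,3),(3,0),(1,0),(1,2),(3,4),(4,3),(2,0),(1,3),(4,4),(1,3),(3,0),(3,4),(0,1),(2,3),(1,2),(0,4),(4,0),(2,4),(0,1),(4,3),(0,2),(4,0),(4,0),(3,3),(2,0),(4,0),(4,1),(0,3),(1,4),(4,0),(1,4),(0,2),(4,0),(3,1),(2,0),(1,0),(2,4),(4,0),(3,0),(1,2),(1,1),(4,4),(2,2),(1,2),(2,0),(1,0),(0,2),(1,0),(1,3),(3,2),(1,0),(4,1),(2,1),(3,0)]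

lemma cert_a7DR : Cert a7S a7DR 1 :=
  ⟨by decide +kernel, by decide +kernel, a7DRt, a7DRc, by decide +kernel⟩

lemma det_a7DR : det3 a7DR = q1 := by decide +kernel

/-- Generator. -/
def a7A : M3 5 := ![![(4,2),(0,0),(1,3)],![(4,4),(1,2),(4,4)],![(2,0),(1,3),(2,0)]]

/-- Images. -/
def a7At : Fin 105 → Fin 105 := ![5,25,55,10,51,45,54,58,4,74,85,76,2,16,47,104,99,86,50,26,44,12,75,98,103,70,9,30,72,89,60,42,8,53,102,57,87,68,35,59,39,22,79,91,61,84,1,38,64,73,62,81,78,36,46,83,101,65,80,27,94,69,43,52,96,88,93,33,95,48,82,0,41,23,92,24,71,63,90,49,3,56,6,29,11,100,67,17,14,21,66,34,15,77,40,13,20,37,31,97,7,32,18,28,19]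

/-- Scalars. -/
def a7Ac : Fin 105 → Q2 5 := ![(1,3),(4,2),(0,1),(1,2),(1,3),(1,2),(3,4),(3,4),(4,1),(3,3),(0,1),(3,3),(3,0),(0,3),(3,0),(4,1),(2,3),(3,0),(0,2),(3,4),(3,2),(2,1),(0,4),(4,3),(2,3),(2,2),(4,1),(4,3),(0,4),(4,3),(1,1),(4,2),(1,3),(4,3),(3,4),(3,4),(1,1),(3,3),(4,3),(0,4),(0,1),(4,3),(1,4),(3,1),(2,0),(1,0),(3,4),(4,4),(1,3),(0,3),(4,2),(2,0),(3,0),(4,0),(2,2),(1,4),(4,1),(4,4),(1,2),(2,0),(2,3),(0,4),(2,1),(3,1),(0,4),(0,4),(4,2),(4,1),(3,0),(1,2),(4,2),(3,0),(4,0),(3,4),(4,2),(4,1),(0,4),(3,0),(1,1),(1,3),(1,1),(1,1),(1,0),(0,4),(2,4),(2,4),(4,3),(3,2),(4,2),(4,4),(1,2),(2,1),(2,3),(0,4),(1,3),(4,1),(4,4),(2,1),(4,3),(3,0),(4,2),(4,1),(4,0),(0,2),(4,0)]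

lemma cert_a7A : Cert a7S a7A 6 :=
  ⟨by decide +kernel, by decide +kernel, a7At, a7Ac, by decide +kernel⟩

lemma det_a7A : det3 a7A = q1 := by decide +kernel

/-- Generator. -/
def a7B : M3 5 := ![![(0,0),(0,1),(4,2)],![(0,4),(3,0),(4,4)],![(1,2),(1,4),(2,0)]]

/-- Images. -/
def a7Bt : Fin 105 → Fin 105 := ![25,10,104,5,89,54,100,84,2,101,76,82,9,47,44,81,65,50,52,56,16,15,98,27,31,58,4,72,42,92,24,30,29,102,63,96,18,35,61,28,22,79,39,77,68,70,7,64,97,59,93,55,36,43,3,74,83,69,0,75,41,99,78,86,13,20,33,62,14,95,85,6,23,94,51,49,1,53,67,60,11,21,80,19,46,45,34,91,48,26,87,90,32,17,103,57,37,88,40,38,71,12,66,73,8]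

/-- Scalars. -/
def a7Bc : Fin 105 → Q2 5 := ![(4,2),(0,4),(0,2),(0,1),(4,3),(1,0),(3,1),(4,0),(3,0),(0,3),(1,0),(4,2),(2,0),(0,3),(4,0),(4,1),(3,2),(3,4),(4,4),(4,4),(1,4),(1,4),(0,1),(1,4),(0,3),(4,0),(4,4),(1,3),(4,3),(0,4),(1,0),(0,1),(0,3),(0,3),(2,0),(0,1),(4,4),(2,0),(1,4),(2,1),(3,0),(4,4),(4,0),(2,0),(3,4),(2,4),(1,3),(0,2),(1,0),(3,0),(4,3),(1,0),(3,3),(0,1),(0,3),(2,1),(1,1),(2,4),(2,4),(0,4),(1,1),(2,3),(4,0),(0,2),(3,0),(1,4),(1,4),(0,1),(1,2),(4,4),(1,3),(1,0),(0,4),(3,2),(1,2),(0,4),(0,2),(0,4),(0,2),(2,2),(2,4),(2,3),(4,0),(2,2),(3,1),(1,0),(0,2),(1,1),(0,4),(0,1),(1,1),(3,3),(4,0),(1,0),(4,1),(0,2),(0,4),(0,2),(0,1),(4,1),(4,2),(0,3),(3,4),(4,1),(0,3)]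

lemma cert_a7B : Cert a7S a7B 2 :=
  ⟨by decide +kernel, by decide +kernel, a7Bt, a7Bc, by decide +kernel⟩

lemma det_a7B : det3 a7B = q1 := by decide +kernel

/-- An element outside the model. -/
def a7Out : M3 5 := ![![(4,0),(0,3),(0,4)],![(3,1),(1,2),(4,0)],![(4,2),(2,3),(3,1)]]

lemma out_a7_unitary : ∀ i j, gram a7Out i j = idm i j := by decide +kernel

lemma det_a7Out : det3 a7Out = q1 := by decide +kernel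

lemma out_a7_bad : ∀ k : Fin 105, ∀ a b : ZMod 5, mv a7Out (a7S 0) ≠ sv (a, b) (a7S k) := by decide +kernel

end CfsgLib.SmallDim.UThree
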