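import Cfsg.Agent.Lib.SmallDim.UnitaryThreeCode

/-!
Line sets preserved by `3.M10` inside `SU(3,5)` and `L2(7)` inside `SU(3,3)`.
-/

set_option autoImplicit false
set_option maxRecDepth 8000

namespace CfsgLib.SmallDim.UThree

/-- The lines of the model `m10`. -/
def m10S : Fin 36 → V3 5 :=
  ![![(1,0),(0,4),(1,0)]
   ,![(1,0),(0,2),(0,2)]
   ,![(1,0),(3,4),(2,4)]
   ,![(1,0),(2,1),(0,3)]
   ,![(1,0),(1,2),(2,3)]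
   ,![(1,0),(4,3),(1,0)]
   ,![(1,0),(1,0),(0,4)]
   ,![(1,0),(2,2),(4,3)]
   ,![(1,0),(3,1),(3,1)]
   ,![(1,0),(1,0),(4,2)]
   ,![(1,0),(2,3),(4,2)]
   ,![(1,0),(2,3),(1,3)]
   ,![(1,0),(4,2),(1,0)]
   ,![(1,0),(0,3),(2,1)]
   ,![(1,0),(2,3),(1,2)]
   ,![(1,0),(2,2),(0,1)]
   ,![(1,0),(4,3),(2,2)]
   ,![(1,0),(0,1),(2,2)]
   ,![(1,0),(2,2),(1,3)]
   ,![(1,0),(3,4),(3,4)]
   ,![(1,0),(2,4),(0,2)]
   ,![(1,0),(3,1),(2,1)]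
   ,![(1,0),(0,4),(2,3)]
   ,![(1,0),(1,3),(2,3)]
   ,![(1,0),(2,1),(3,1)]
   ,![(1,0),(2,4),(3,4)]
   ,![(1,0),(0,3),(0,3)]
   ,![(1,0),(1,2),(2,2)]
   ,![(1,0),(0,1),(1,0)]
   ,![(1,0),(2,2),(1,2)]
   ,![(1,0),(1,3),(2,2)]
   ,![(1,0),(0,2),(2,4)]
   ,![(1,0),(4,2),(2,3)]
   ,![(1,0),(1,0),(4,3)]
   ,![(1,0),(2,3),(0,4)]
   ,![(1,0),(1,0),(0,1)]]

/-- Generator. -/
def m10X : M3 5 := ![![(1,0),(0,0),(0,0)],![(0,0),(2,2),(0,0)],![(0,0),(0,0),(2,3)]]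

/-- Images. -/
def m10Xt : Fin 36 → Fin 36 := ![23,2,25,8,17,22,7,11,13,15,35,6,4,3,9,14,0,12,34,20,31,26,30,16,21,1,24,28,32,10,5,19,27,18,33,29]

/-- Scalars. -/
def m10Xc : Fin 36 → Q2 5 := ![(1,0),(1,0),(1,0),(1,0),(1,0),(1,0),(1,0),(1,0),(1,0),(1,0),(1,0),(1,0),(1,0),(1,0),(1,0),(1,0),(1,0),(1,0),(1,0),(1,0),(1,0),(1,0),(1,0),(1,0),(1,0),(1,0),(1,0),(1,0),(1,0),(1,0),(1,0),(1,0),(1,0),(1,0),(1,0),(1,0)]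

lemma cert_m10X : Cert m10S m10X 2 :=
  ⟨by decide +kernel, by decide +kernel, m10Xt, m10Xc, by decide +kernel⟩

lemma det_m10X : det3 m10X = q1 := by decide +kernel

/-- Generator. -/
def m10Y : M3 5 := ![![(0,0),(0,0),(1,0)],![(1,0),(0,0),(0,0)],![(0,0),(1,0),(0,0)]]

/-- Images. -/
def m10Yt : Fin 36 → Fin 36 := ![6,0,23,17,15,33,1,2,12,8,21,25,9,4,3,13,11,14,20,5,22,27,18,7,32,16,28,10,35,24,34,30,29,19,31,26]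

/-- Scalars. -/
def m10Yc : Fin 36 → Q2 5 := ![(1,0),(0,2),(2,4),(0,3),(2,3),(1,0),(0,4),(4,3),(3,1),(4,2),(4,2),(1,3),(1,0),(2,1),(1,2),(0,1),(2,2),(2,2),(1,3),(3,4),(0,2),(2,1),(2,3),(2,3),(3,1),(3,4),(0,3),(2,2),(1,0),(1,2),(2,2),(2,4),(2,3),(4,3),(0,4),(0,1)]

lemma cert_m10Y : Cert m10S m10Y 2 :=
  ⟨by decide +kernel, by decide +kernel, m10Yt, m10Yc, by decide +kernel⟩

lemma det_m10Y : det3 m10Y = q1 := by decide +kernel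

/-- Generator. -/
def m10Qi : M3 5 := ![![(3,4),(0,2),(2,4)],![(0,2),(0,2),(0,2)],![(2,4),(0,2),(3,4)]]

/-- Images. -/
def m10Qit : Fin 36 → Fin 36 := ![12,17,3,11,1,28,4,13,16,23,18,15,0,25,7,2,9,6,24,27,21,34,26,8,31,14,30,33,5,20,35,10,19,32,29,22]

/-- Scalars. -/
def m10Qic : Fin 36 → Q2 5 := ![(1,3),(2,3),(0,1),(1,4),(4,0),(2,1),(0,4),(3,0),(1,4),(2,1),(4,3),(1,3),(3,1),(2,4),(3,1),(4,0),(0,4),(2,1),(2,3),(2,0),(0,2),(4,0),(2,3),(3,0),(1,2),(2,3),(4,0),(1,3),(4,3),(4,1),(0,3),(2,0),(4,1),(0,3),(2,1),(1,3)]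

lemma cert_m10Qi : Cert m10S m10Qi 3 :=
  ⟨by decide +kernel, by decide +kernel, m10Qit, m10Qic, by decide +kernel⟩

lemma det_m10Qi : det3 m10Qi = q1 := by decide +kernel

/-- Generator. -/
def m10Qj : M3 5 := ![![(3,4),(2,4),(2,4)],![(3,4),(0,2),(3,4)],![(2,4),(2,4),(3,4)]]

/-- Images. -/
def m10Qjt : Fin 36 → Fin 36 := ![12,13,9,16,25,5,14,4,2,11,26,8,0,6,1,23,15,7,22,20,33,27,31,3,35,17,24,29,28,32,18,30,21,34,19,10]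

/-- Scalars. -/
def m10Qjc : Fin 36 → Q2 5 := ![(2,1),(0,2),(2,0),(4,0),(4,1),(2,0),(2,1),(0,3),(1,2),(4,3),(0,3),(2,3),(4,3),(4,0),(4,1),(1,3),(0,3),(1,3),(4,1),(4,4),(0,4),(4,3),(3,1),(2,3),(4,3),(2,0),(1,1),(1,4),(3,0),(1,4),(4,1),(0,4),(0,3),(2,0),(3,1),(3,0)]

lemma cert_m10Qj : Cert m10S m10Qj 3 :=
  ⟨by decide +kernel, by decide +kernel, m10Qjt, m10Qjc, by decide +kernel⟩

lemma det_m10Qj : det3 m10Qj = q1 := by decide +kernel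

/-- Generator. -/
def m10E : M3 5 := ![![(2,0),(3,2),(2,2)],![(1,0),(3,2),(4,4)],![(4,0),(4,1),(3,3)]]

/-- Images. -/
def m10Et : Fin 36 → Fin 36 := ![12,26,21,18,35,3,23,32,17,34,27,28,30,11,13,7,8,20,10,14,29,1,6,33,2,25,24,5,19,16,4,22,9,31,15,0]

/-- Scalars. -/
def m10Ec : Fin 36 → Q2 5 := ![(0,4),(3,0),(2,0),(4,3),(4,3),(3,4),(1,0),(1,4),(0,2),(1,4),(1,0),(4,1),(4,1),(2,0),(0,4),(0,2),(3,0),(3,1),(0,3),(4,2),(2,0),(3,0),(4,2),(3,1),(2,0),(1,0),(1,0),(0,1),(3,0),(1,1),(4,4),(0,3),(3,4),(0,1),(1,1),(4,4)]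

lemma cert_m10E : Cert m10S m10E 4 :=
  ⟨by decide +kernel, by decide +kernel, m10Et, m10Ec, by decide +kernel⟩

lemma det_m10E : det3 m10E = q1 := by decide +kernel

/-- An element outside the model. -/
def m10Out : M3 5 := ![![(0,3),(2,3),(4,3)],![(3,1),(2,1),(0,2)],![(3,1),(1,2),(4,0)]]

lemma out_m10_unitary : ∀ i j, gram m10Out i j = idm i j := by decide +kernel

lemma det_m10Out : det3 m10Out = q1 := by decide +kernel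

lemma out_m10_bad : ∀ k : Fin 36, ∀ a b : ZMod 5, mv m10Out (m10S 1) ≠ sv (a, b) (m10S k) := by decide +kernel

/-- The lines of the model `l7`. -/
def l7S : Fin 21 → V3 3 :=
  ![![(0,0),(1,0),(1,0)]
   ,![(1,0),(0,2),(0,0)]
   ,![(1,0),(0,1),(2,1)]
   ,![(1,0),(1,0),(2,2)]
   ,![(1,0),(0,0),(0,1)]
   ,![(1,0),(2,1),(1,2)]
   ,![(1,0),(1,2),(0,2)]
   ,![(1,0),(1,1),(2,2)]
   ,![(1,0),(1,1),(0,2)]
   ,![(1,0),(2,2),(2,1)]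
   ,![(1,0),(2,0),(1,2)]
   ,![(1,0),(0,1),(2,2)]
   ,![(1,0),(1,1),(2,0)]
   ,![(1,0),(0,1),(1,1)]
   ,![(1,0),(2,2),(0,2)]
   ,![(1,0),(0,1),(1,2)]
   ,![(1,0),(2,1),(1,0)]
   ,![(1,0),(1,2),(2,1)]
   ,![(1,0),(2,2),(1,1)]
   ,![(1,0),(1,2),(1,1)]
   ,![(1,0),(2,1),(0,2)]]

/-- Generator. -/
def l7A : M3 3 := ![![(0,0),(1,1),(2,1)],![(0,0),(1,1),(1,2)],![(1,0),(0,0),(0,0)]]

/-- Images. -/
def l7At : Fin 21 → Fin 21 := ![1,3,5,8,10,11,14,15,16,4,18,9,17,6,7,12,20,13,2,0,19]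

/-- Scalars. -/
def l7Ac : Fin 21 → Q2 3 := ![(0,2),(1,2),(2,2),(0,1),(2,2),(1,2),(0,1),(2,2),(1,0),(0,2),(2,1),(1,1),(1,1),(0,1),(1,2),(2,0),(0,1),(2,1),(1,1),(1,0),(2,1)]

lemma cert_l7A : Cert l7S l7A 6 :=
  ⟨by decide +kernel, by decide +kernel, l7At, l7Ac, by decide +kernel⟩

lemma det_l7A : det3 l7A = q1 := by decide +kernel

/-- Generator. -/
def l7B : M3 3 := ![![(2,0),(0,2),(2,2)],![(1,2),(2,2),(0,0)],![(0,2),(1,0),(2,1)]]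

/-- Images. -/
def l7Bt : Fin 21 → Fin 21 := ![2,4,6,5,7,12,0,1,10,17,13,14,3,8,16,20,11,19,15,9,18]

/-- Scalars. -/
def l7Bc : Fin 21 → Q2 3 := ![(2,1),(1,0),(2,0),(2,1),(0,2),(1,1),(2,2),(0,1),(2,0),(0,1),(0,1),(0,2),(1,0),(0,1),(0,2),(1,0),(2,0),(0,2),(1,2),(1,0),(2,2)]

lemma cert_l7B : Cert l7S l7B 2 :=
  ⟨by decide +kernel, by decide +kernel, l7Bt, l7Bc, by decide +kernel⟩

lemma det_l7B : det3 l7B = q1 := by decide +kernel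

/-- Generator. -/
def l7E : M3 3 := ![![(0,0),(0,0),(0,2)],![(0,0),(2,0),(0,0)],![(0,1),(0,0),(0,0)]]

/-- Images. -/
def l7Et : Fin 21 → Fin 21 := ![1,0,7,9,4,13,6,2,8,3,19,17,16,5,14,18,12,11,15,10,20]

/-- Scalars. -/
def l7Ec : Fin 21 → Q2 3 := ![(0,2),(0,1),(1,1),(2,1),(1,0),(2,2),(2,0),(2,1),(2,0),(1,1),(2,2),(2,1),(0,1),(1,2),(2,0),(2,2),(0,2),(1,1),(1,2),(1,2),(2,0)]

lemma cert_l7E : Cert l7S l7E 1 :=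
  ⟨by decide +kernel, by decide +kernel, l7Et, l7Ec, by decide +kernel⟩

lemma det_l7E : det3 l7E = q1 := by decide +kernel

/-- An element outside the model. -/
def l7Out : M3 3 := ![![(0,0),(0,0),(2,0)],![(0,0),(1,0),(0,0)],![(1,0),(0,0),(0,0)]]

lemma out_l7_unitary : ∀ i j, gram l7Out i j = idm i j := by decide +kernel

lemma det_l7Out : det3 l7Out = q1 := by decide +kernel

lemma out_l7_bad : ∀ k : Fin 21, ∀ a b : ZMod 3, mv l7Out (l7S 0) ≠ sv (a, b) (l7S k) := by decide +kernel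

end CfsgLib.SmallDim.UThree
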